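import Mathlib.AlgebraicGeometry.Morphisms.IsIso
import Mathlib.AlgebraicGeometry.Morphisms.ClosedImmersion
import Mathlib.AlgebraicGeometry.AffineScheme
import Mathlib.CategoryTheory.Comma.Over.Pullback
import Mathlib.AlgebraicGeometry.PullbackCarrier
import Mathlib.RingTheory.Spectrum.Prime.Topology

/-!
Endomorphisms inducing the identity modulo a square-zero ideal are automorphisms.
-/

open CategoryTheory Limits AlgebraicGeometry PrimeSpectrum

universe u

namespace Groth.Agent.SqZeroAuto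

lemma bijective_of_mk_comp {R A : Type u} [CommRing R] [CommRing A] (J : Ideal R) (hJ : J * J = ⊥)
    (ρ : R →+* A) (φ : A →+* A) (hφ : φ.comp ρ = ρ)
    (h : (Ideal.Quotient.mk (J.map ρ)).comp φ = Ideal.Quotient.mk (J.map ρ)) :
    Function.Bijective φ := by
  have hδ : ∀ a, φ a - a ∈ J.map ρ := fun a ↦ by
    rw [← Ideal.Quotient.eq]
    exact RingHom.congr_fun h a
  have hsq : J.map ρ * J.map ρ = ⊥ := by
    rw [← Ideal.map_mul, hJ, Ideal.map_bot]
  have hfix : ∀ x ∈ J.map ρ, φ x = x := by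
    intro x hx
    rw [Ideal.map] at hx
    induction hx using Submodule.span_induction with
    | mem y hy =>
      obtain ⟨j, -, rfl⟩ := hy
      exact RingHom.congr_fun hφ j
    | zero => exact map_zero φ
    | add y z _ _ hy hz => rw [map_add, hy, hz]
    | smul a y hy' hy =>
      rw [smul_eq_mul, map_mul, hy, ← sub_eq_zero, ← sub_mul]
      have : (φ a - a) * y ∈ J.map ρ * J.map ρ := Ideal.mul_mem_mul (hδ a) hy'
      rwa [hsq, Ideal.mem_bot] at this
  refine ⟨(injective_iff_map_eq_zero φ).2 fun a ha ↦ ?_, fun b ↦ ⟨b - (φ b - b), ?_⟩⟩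
  · have hm : a ∈ J.map ρ := by simpa [ha] using hδ a
    rw [← hfix a hm, ha]
  · rw [map_sub, hfix _ (hδ b), sub_sub_cancel]

theorem isIso_of_pullback_eq_id {R : Type u} [CommRing R] (J : Ideal R) (hJ : J * J = ⊥)
    (X : Over (Spec (CommRingCat.of R))) (u : X ⟶ X)
    (h : (Over.pullback (Spec.map (CommRingCat.ofHom (Ideal.Quotient.mk J)))).map u = 𝟙 _) :
    IsIso u := by
  let π := Spec.map (CommRingCat.ofHom (Ideal.Quotient.mk J))
  haveI : Surjective π := ⟨fun p ↦ by
    have hp : J ≤ p.asIdeal := by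
      intro j hj
      have hjj : j * j ∈ (⊥ : Ideal R) := hJ ▸ Ideal.mul_mem_mul hj hj
      rw [Ideal.mem_bot] at hjj
      exact (p.isPrime.mem_or_mem (hjj ▸ p.asIdeal.zero_mem)).elim id id
    have hr : p ∈ Set.range (PrimeSpectrum.comap (Ideal.Quotient.mk J)) := by
      rw [range_comap_of_surjective _ _ Ideal.Quotient.mk_surjective, Ideal.mk_ker]
      exact hp
    exact hr⟩
  let i : pullback X.hom π ⟶ X.left := pullback.fst X.hom π
  have hi : i ≫ u.left = i := by
    have h1 := congrArg (fun q ↦ q.left ≫ pullback.fst X.hom π) h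
    simp only [Over.pullback_map_left, Over.id_left] at h1
    exact (pullback.lift_fst _ _ _).symm.trans (h1.trans (Category.id_comp i))
  haveI : Surjective i := MorphismProperty.pullback_fst (P := @Surjective) _ _ ‹Surjective π›
  have hbase : ∀ x : X.left, u.left x = x := by
    intro x
    obtain ⟨y, rfl⟩ := i.surjective x
    exact congrArg (fun q : pullback X.hom π ⟶ X.left ↦ q y) hi
  suffices IsIso ((Over.forget _).map u) from isIso_of_reflects_iso u (Over.forget _)
  show MorphismProperty.isomorphisms Scheme.{u} u.left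
  refine IsZariskiLocalAtTarget.of_iSup_eq_top (fun U : X.left.affineOpens ↦ U.1)
    (iSup_affineOpens_eq_top _) fun U ↦ ?_
  have hU : IsAffineOpen U.1 := U.2
  obtain ⟨ρ, hρ⟩ := Spec.map_surjective (hU.fromSpec ≫ X.hom)
  have hle : Set.range (hU.fromSpec ≫ u.left) ⊆ Set.range hU.fromSpec := by
    rintro _ ⟨x, rfl⟩
    exact ⟨x, (hbase _).symm⟩
  obtain ⟨φ, hφ⟩ := Spec.map_surjective (IsOpenImmersion.lift hU.fromSpec _ hle)
  have hφu : Spec.map φ ≫ hU.fromSpec = hU.fromSpec ≫ u.left := by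
    rw [hφ, IsOpenImmersion.lift_fac]
  have hφρ : φ.hom.comp ρ.hom = ρ.hom := by
    refine congrArg CommRingCat.Hom.hom (Spec.map_injective (a₁ := ρ ≫ φ) (a₂ := ρ) ?_)
    rw [Spec.map_comp, hρ, ← Category.assoc, hφu, Category.assoc, Over.w u]
  let I : Ideal Γ(X.left, U.1) := J.map ρ.hom
  let mk : Γ(X.left, U.1) ⟶ CommRingCat.of (Γ(X.left, U.1) ⧸ I) := CommRingCat.ofHom (Ideal.Quotient.mk I)
  let ρ₀ : CommRingCat.of (R ⧸ J) ⟶ CommRingCat.of (Γ(X.left, U.1) ⧸ I) :=
    CommRingCat.ofHom (Ideal.quotientMap I ρ.hom Ideal.le_comap_map)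
  have hsq : CommRingCat.ofHom (Ideal.Quotient.mk J) ≫ ρ₀ = ρ ≫ mk :=
    CommRingCat.hom_ext (Ideal.quotientMap_comp_mk (I := I) (f := ρ.hom) Ideal.le_comap_map)
  let m : Spec (CommRingCat.of (Γ(X.left, U.1) ⧸ I)) ⟶ pullback X.hom π :=
    pullback.lift (Spec.map mk ≫ hU.fromSpec) (Spec.map ρ₀) (by
      rw [Category.assoc, ← hρ, ← Spec.map_comp, ← Spec.map_comp, hsq])
  have hm : m ≫ i = Spec.map mk ≫ hU.fromSpec := pullback.lift_fst _ _ _
  have hmk : φ ≫ mk = mk := by
    refine Spec.map_injective ?_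
    rw [← cancel_mono hU.fromSpec, Spec.map_comp, Category.assoc, hφu, ← Category.assoc, ← hm,
      Category.assoc, hi]
  have hbij : Function.Bijective φ.hom :=
    bijective_of_mk_comp J hJ ρ.hom φ.hom hφρ (congrArg CommRingCat.Hom.hom hmk)
  haveI : IsIso φ := (ConcreteCategory.isIso_iff_bijective φ).2 hbij
  have hpre : u.left ⁻¹ᵁ U.1 = U.1 := by
    ext x
    exact iff_of_eq (congrArg (· ∈ (U.1 : Set X.left)) (hbase x))
  let e : Arrow.mk (u.left ∣_ U.1) ≅ Arrow.mk (Spec.map φ) :=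
    Arrow.isoMk (Scheme.isoOfEq _ hpre ≪≫ hU.isoSpec) hU.isoSpec (by
      refine (cancel_mono hU.fromSpec).1 ?_
      have h2 : hU.isoSpec.hom ≫ hU.fromSpec = U.1.ι := hU.isoSpec_hom_fromSpec
      show ((Scheme.isoOfEq _ hpre).hom ≫ hU.isoSpec.hom) ≫ Spec.map φ ≫ hU.fromSpec =
        ((u.left ∣_ U.1) ≫ hU.isoSpec.hom) ≫ hU.fromSpec
      rw [hφu, Category.assoc, Category.assoc, reassoc_of% h2, h2, morphismRestrict_ι,
        ← Category.assoc, Scheme.isoOfEq_hom_ι])
  exact ((MorphismProperty.isomorphisms Scheme.{u}).arrow_mk_iso_iff e).2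
    (inferInstanceAs (IsIso (Spec.map φ)))

end Groth.Agent.SqZeroAuto
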